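import Groth.Agent.Lib.QuotGrp14.Sheaf
import Groth.Agent.Lib.FppfQuot.Basic
import Groth.Agent.Lib.FpqcQuot14.Quot
import Groth.Agent.S5236

/-!
# From left to right translation quotients; normal subgroups
-/

universe u

open CategoryTheory CategoryTheory.Limits MonoidalCategory CartesianMonoidalCategory MonObj GrpObj
open AlgebraicGeometry

set_option backward.isDefEq.respectTransparency false

noncomputable section

namespace GrothLib.QuotGrp14

variable {S : Scheme.{u}} {F G X : Over S} [GrpObj F] [GrpObj G] {u : F ⟶ G} [IsMonHom u]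

/-- Composing with the inverse turns a quotient by left translations into one by right translations. -/
theorem isQuotient_inv_comp {p : G ⟶ X} (sq : IsPullback (act u) (snd F G) p p) (hf : Flat p.left)
    (hs : Surjective p.left) (hp : LocallyOfFinitePresentation p.left) :
    RedSub.IsQuotient u (GrpObj.inv (X := G) ≫ p) := by
  have hI : IsIso (GrpObj.inv (X := G)).left :=
    have : IsIso (GrpObj.inv (X := G)) := ⟨GrpObj.inv (X := G), by simp, by simp⟩
    GrothLib.GrpSchField.isIso_left _
  refine ⟨?_, ?_, ?_, ?_⟩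
  · rw [Over.comp_left]; infer_instance
  · rw [Over.comp_left]; infer_instance
  · rw [Over.comp_left]; infer_instance
  · let sw : G ⊗ F ≅ F ⊗ G :=
      { hom := lift (snd G F)⁻¹ (fst G F)⁻¹
        inv := lift (snd F G)⁻¹ (fst F G)⁻¹
        hom_inv_id := by simp [comp_lift, GrpObj.comp_inv]
        inv_hom_id := by simp [comp_lift, GrpObj.comp_inv] }
    let ι' : G ≅ G :=
      { hom := GrpObj.inv (X := G)
        inv := GrpObj.inv (X := G)
        hom_inv_id := by simp
        inv_hom_id := by simp }
    have hmul : (G ◁ u) ≫ μ[G] = fst G F * (snd G F ≫ u) := by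
      conv_lhs => rw [← lift_comp_fst_snd (G ◁ u)]
      rw [whiskerLeft_fst, whiskerLeft_snd, Hom.mul_def]
    refine (sq.of_iso sw.symm ι'.symm ι'.symm (Iso.refl X) ?_ ?_ ?_ ?_).flip
    · simp only [Iso.symm_hom, sw, ι', hmul, MonObj.comp_mul, lift_fst, lift_snd_assoc, comp_act,
        GrpObj.inv_comp, GrpObj.comp_inv]
      rw [show act u = (fst F G ≫ u) * snd F G by rw [← Category.id_comp (act u), comp_act]; simp]
      simp [← Hom.inv_def, MonObj.comp_mul, _root_.mul_inv_rev]
    · simp [sw, ι', Hom.inv_def]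
    · simp [ι']
    · simp [ι']

/-- The quotient by a normal subgroup is a group, with kernel the subgroup. -/
theorem exists_grpObj_quotient [Mono u] {p : G ⟶ X} (sq : IsPullback (act u) (snd F G) p p)
    (hf : Flat p.left) (hs : Surjective p.left) (hp : LocallyOfFinitePresentation p.left)
    (hN : AlgGrp.IsNormalHom u) :
    ∃ (_ : GrpObj X) (q : G ⟶ X), IsMonHom q ∧ Flat q.left ∧ Surjective q.left ∧
      LocallyOfFinitePresentation q.left ∧ AlgGrp.IsKernel u q := by
  have hq := isQuotient_inv_comp sq hf hs hp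
  obtain ⟨str, hstr, -⟩ := Groth.Agent.S5236.result u hN _ hq
  refine ⟨str, GrpObj.inv (X := G) ≫ p, hstr, hq.2.1, hq.1, hq.2.2.1, ?_⟩
  have h := GrothLib.FpqcQuot14.isPullback_unit hq.2.2.2.flip
  have h1 : η[G] ≫ GrpObj.inv (X := G) ≫ p = η[X] := @IsMonHom.one_hom (Over S) _ _ G X _ str.toMonObj _ hstr
  rw [h1] at h
  exact h

end GrothLib.QuotGrp14
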