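import Groth.Agent.Lib.QuotGrp14.Field
import Groth.Agent.Lib.Neutral.ArtinHom
import Groth.Agent.S10584
import Groth.Agent.Lib.AlgSp.QuotRestrict
import Mathlib.CategoryTheory.Limits.Constructions.Over.Connected
import Mathlib.CategoryTheory.Limits.Preserves.Shapes.Terminal

/-!
# Quotients of group schemes over an artinian local ring are schemes

`isRepresentable_quot_artin`, `exists_quotient_artin`.
-/

universe u

open CategoryTheory CategoryTheory.Limits MonoidalCategory CartesianMonoidalCategory MonObj GrpObj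
open AlgebraicGeometry Topology

set_option backward.isDefEq.respectTransparency false

noncomputable section

namespace GrothLib.QuotGrp14

open _root_.AlgSp (yon Sp RepWith)
open GrothLib.Neutral (closedPt)

section BaseChange

variable {S' S : Scheme.{u}} (i : S' ⟶ S)

/-- `Over.map i (A ×_S S') ≅ A ⊗ S'`. -/
def mapBcIso (X : Over S) : (Over.map i).obj ((Over.pullback i).obj X) ≅ X ⊗ Over.mk i :=
  Over.isoMk (Iso.refl _) (by
    simp only [Over.tensorObj_hom, Over.map_obj_hom, Over.pullback_obj_hom, Over.mk_hom]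
    exact (Category.id_comp _).trans pullback.condition)

theorem mapBcIso_naturality {X Y : Over S} (f : X ⟶ Y) :
    (Over.map i).map ((Over.pullback i).map f) ≫ (mapBcIso i Y).hom = (mapBcIso i X).hom ≫ (f ▷ Over.mk i) := by
  apply Over.OverMorphism.ext
  apply pullback.hom_ext
  · have h := congrArg (fun x => x.left) (whiskerRight_fst f (Over.mk i))
    simp [mapBcIso]
    exact h.symm
  · have h := congrArg (fun x => x.left) (whiskerRight_snd f (Over.mk i))
    simp [mapBcIso]
    exact h.symm

variable {F G : Over S} [GrpObj F] [GrpObj G] (u : F ⟶ G) [IsMonHom u]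

omit [IsMonHom u] in
theorem act_bc : act ((Over.pullback i).map u) =
    Functor.LaxMonoidal.μ (Over.pullback i) F G ≫ (Over.pullback i).map (act u) := by
  rw [act, act, Functor.map_comp, ← Functor.LaxMonoidal.μ_natural_left_assoc]
  rfl

theorem snd_bc : snd ((Over.pullback i).obj F) ((Over.pullback i).obj G) =
    Functor.LaxMonoidal.μ (Over.pullback i) F G ≫ (Over.pullback i).map (snd F G) :=
  (Functor.Monoidal.μ_snd (Over.pullback i) F G).symm

omit [IsMonHom u] in
/-- A quotient morphism after base change gives a chart over the base. -/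
theorem exists_chart_of_bc {X₀ : Over S'} (p₀ : (Over.pullback i).obj G ⟶ X₀)
    (sq : IsPullback (act ((Over.pullback i).map u))
      (snd ((Over.pullback i).obj F) ((Over.pullback i).obj G)) p₀ p₀) :
    ∃ q : G ⊗ Over.mk i ⟶ (Over.map i).obj X₀,
      IsPullback (act u ▷ Over.mk i) (snd F G ▷ Over.mk i) q q ∧ q.left = p₀.left := by
  let μI := (Functor.Monoidal.μIso (Over.pullback i) F G)
  rw [act_bc, snd_bc] at sq
  have sq' : IsPullback ((Over.map i).map ((Over.pullback i).map (act u)))
      ((Over.map i).map ((Over.pullback i).map (snd F G))) ((Over.map i).map p₀) ((Over.map i).map p₀) := by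
    have sq₁ : IsPullback ((Over.pullback i).map (act u)) ((Over.pullback i).map (snd F G)) p₀ p₀ := by
      refine IsPullback.of_iso sq μI (Iso.refl _) (Iso.refl _) (Iso.refl _) ?_ ?_ ?_ ?_ <;> simp [μI]
    exact IsPullback.of_map (Over.forget S)
      (by rw [← Functor.map_comp, ← Functor.map_comp, sq₁.w]) (sq₁.map (Over.forget S'))
  refine ⟨(mapBcIso i G).inv ≫ (Over.map i).map p₀, ?_, ?_⟩
  · refine sq'.of_iso (mapBcIso i (F ⊗ G)) (mapBcIso i G) (mapBcIso i G) (Iso.refl _) ?_ ?_ ?_ ?_
    · exact mapBcIso_naturality i _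
    · exact mapBcIso_naturality i _
    · simp
    · simp
  · simp [mapBcIso]

end BaseChange

variable (A : Type u) [CommRing A] [IsArtinianRing A] [IsLocalRing A]
variable {F G : Over (Spec (CommRingCat.of A))} [GrpObj F] [GrpObj G]
  [LocallyOfFiniteType F.hom] [Flat F.hom] [LocallyOfFiniteType G.hom]

omit [GrpObj F] [GrpObj G] [Flat F.hom] [LocallyOfFiniteType G.hom] in
theorem lfp_artin : LocallyOfFinitePresentation F.hom :=
  haveI : IsLocallyNoetherian (Spec (CommRingCat.of A)) := inferInstance
  inferInstance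

/-- The quotient sheaf of a group scheme over an artinian local ring by a flat closed subgroup is a scheme. -/
theorem isRepresentable_quot_artin (u : F ⟶ G) [IsMonHom u] [Mono u] [IsClosedImmersion u.left] :
    ∃ X : Over (Spec (CommRingCat.of A)), Nonempty ((yon _).obj X ≅ quot u) := by
  let i := closedPt A
  haveI := lfp_artin A (F := F)
  haveI := GrothLib.Neutral.lft_reduction A F
  haveI := GrothLib.Neutral.lft_reduction A G
  let u₀ : Red.bc i F ⟶ Red.bc i G := (Over.pullback i).map u
  haveI : IsClosedImmersion u₀.left :=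
    MorphismProperty.of_isPullback (GrothLib.FibreLocus.isPullback_map_left u i).flip ‹_›
  obtain ⟨X₀, ⟨e₀⟩⟩ := isRepresentable_quot u₀
  obtain ⟨p₀, hf₀, hs₀, hp₀, sq₀⟩ := exists_proj_of_rep u₀ e₀
  obtain ⟨q, sqq, hq⟩ := exists_chart_of_bc i u p₀ sq₀
  haveI := GrothLib.AlgSp.isLocallySurjective_yonQuotπ (snd F G) (act u)
  haveI : Sheaf.IsLocallySurjective (prodChart (proj u) (Over.mk i)) := isLocallySurjective_prodChart _ _
  haveI : Sheaf.IsLocallySurjective ((yon _).map q) :=
    GrothLib.AlgSp.isLocallySurjective_yon_map q (hq ▸ hf₀) (hq ▸ hp₀) (hq ▸ hs₀)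
  obtain ⟨e, -⟩ := exists_iso_of_sameKernel ((yon _).map q) (prodChart (proj u) (Over.mk i))
    (GrothLib.AlgSp.isPullback_yon sqq) (isPullback_prodChart _ (isPullback_proj u) _)
  let Q : _root_.AlgSp.Space (Spec (CommRingCat.of A)) := ⟨quot u, isAlgSpace_quot u⟩
  let Z : _root_.AlgSp.Space (Spec (CommRingCat.of A)) :=
    (_root_.AlgSp.ofScheme _).obj ((Over.map i).obj X₀)
  let f : Z ⟶ Q := ObjectProperty.homMk (e.hom ≫ Limits.prod.fst)
  have hT : IsTerminal ((yon (Spec (CommRingCat.of A))).obj (Over.mk (𝟙 _))) :=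
    IsTerminal.isTerminalObj (yon _) _ Over.mkIdTerminal
  let s : Over.mk i ⟶ Over.mk (𝟙 (Spec (CommRingCat.of A))) := Over.mkIdTerminal.from _
  have sqT : IsPullback (Limits.prod.snd : quot u ⨯ (yon _).obj (Over.mk i) ⟶ _) Limits.prod.fst
      ((yon _).map s) (hT.from _) := by
    refine IsPullback.of_isLimit' ⟨hT.hom_ext _ _⟩ (PullbackCone.IsLimit.mk _
      (fun c => Limits.prod.lift c.snd c.fst) (fun c => Limits.prod.lift_snd _ _)
      (fun c => Limits.prod.lift_fst _ _) (fun c m h₁ h₂ => ?_))
    apply Limits.prod.hom_ext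
    · rw [h₂, Limits.prod.lift_fst]
    · rw [h₁, Limits.prod.lift_snd]
  have hth : _root_.AlgSp.IsThickMor f.hom := by
    have h0 : RepWith _root_.AlgSp.thick ((yon _).map s) := by
      rw [_root_.AlgSp.repWith_yon_map_iff]
      have : s.left = i := by simpa using Over.w s
      rw [this]
      exact ⟨inferInstance, inferInstance⟩
    have h1 := (_root_.AlgSp.repWith_isStableUnderBaseChange _).of_isPullback sqT h0
    haveI : (RepWith (S := Spec (CommRingCat.of A)) _root_.AlgSp.thick).RespectsIso :=
      MorphismProperty.IsStableUnderBaseChange.respectsIso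
    exact MorphismProperty.RespectsIso.precomp (P := RepWith _root_.AlgSp.thick) e.hom _ h1
  exact Groth.Agent.S10584.result f hth ⟨_, ⟨Iso.refl _⟩⟩

/-- The quotient of a group scheme over an artinian local ring by a flat closed subgroup. -/
theorem exists_quotient_artin (u : F ⟶ G) [IsMonHom u] [Mono u] [IsClosedImmersion u.left] :
    ∃ (X : Over (Spec (CommRingCat.of A))) (p : G ⟶ X), Flat p.left ∧ Surjective p.left ∧
      LocallyOfFinitePresentation p.left ∧ IsPullback (act u) (snd F G) p p ∧
      IsSeparated X.hom ∧ LocallyOfFiniteType X.hom ∧ (Flat G.hom → Flat X.hom) ∧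
      (QuasiCompact G.hom → QuasiCompact X.hom) ∧ (Smooth G.hom → Smooth X.hom) := by
  haveI := lfp_artin A (F := F)
  obtain ⟨X, ⟨e⟩⟩ := isRepresentable_quot_artin A u
  obtain ⟨p, hf, hs, hp, sq⟩ := exists_proj_of_rep u e
  refine ⟨X, p, hf, hs, hp, sq, ?_, ?_, fun _ => ?_, fun _ => ?_, fun _ => ?_⟩
  · have h : RepWith @IsClosedImmersion (Limits.diag ((yon _).obj X)) := by
      have hd : Limits.diag ((yon _).obj X) = e.hom ≫ Limits.diag (quot u) ≫ Limits.prod.map e.inv e.inv := by
        ext <;> simp
      rw [hd]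
      exact MorphismProperty.RespectsIso.precomp _ _ _
        (MorphismProperty.RespectsIso.postcomp _ _ _ (isSeparatedSp_quot u))
    exact ⟨(_root_.AlgSp.repWith_diag_yon_iff @IsClosedImmersion X).1 h⟩
  · have : LocallyOfFiniteType (p.left ≫ X.hom) := by rw [Over.w p]; infer_instance
    exact GrothLib.FppfSource.fppfSourceDescends_lft p.left X.hom hf hp hs this
  · exact GrothLib.AlgSp.srcDescends_flat p.left X.hom hf hs (by rw [Over.w p]; assumption)
  · haveI : QuasiCompact (p.left ≫ X.hom) := by rw [Over.w p]; assumption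
    haveI : CompactSpace ↥G.left := QuasiCompact.compactSpace_of_compactSpace G.hom
    haveI : CompactSpace ↥X.left := hs.surj.compactSpace p.left.continuous
    exact quasiCompact_iff_compactSpace X.hom |>.2 inferInstance
  · have : Smooth (p.left ≫ X.hom) := by rw [Over.w p]; assumption
    exact GrothLib.FppfSource.fppfSourceDescends_smooth p.left X.hom hf hp hs this

end GrothLib.QuotGrp14
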