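import Groth.Agent.Lib.AlgSp.BootstrapQuot
import Groth.Agent.Lib.AlgSp.AffineDescent
import Groth.Agent.Lib.AlgSp.SourceLocal
import Groth.Agent.Lib.FppfSource.Scheme
import Mathlib.CategoryTheory.Monoidal.Cartesian.Over

/-!
# Charts of sheaves: descent along them, products with a representable sheaf

`exists_desc`, `exists_iso_of_sameKernel`, `prodChart`, `isPullback_prodChart`, `repWith_prodMap`,
`locP_lft_of_chart`.
-/

universe u

open CategoryTheory CategoryTheory.Limits MonoidalCategory CartesianMonoidalCategory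
open AlgebraicGeometry Opposite

set_option backward.isDefEq.respectTransparency false

noncomputable section

namespace GrothLib.QuotGrp14

open _root_.AlgSp

variable {S : Scheme.{u}}

/-- Maps equalized by a kernel pair of a locally surjective map descend. -/
theorem exists_desc {A B C P : Sp S} (π : A ⟶ B) [Sheaf.IsLocallySurjective π] {a b : C ⟶ A}
    (sq : IsPullback a b π π) (φ : A ⟶ P) (h : a ≫ φ = b ≫ φ) : ∃ ψ : B ⟶ P, π ≫ ψ = φ := by
  haveI : Epi π := (Sheaf.isLocallySurjective_iff_epi _).1 ‹_›
  haveI := IsRegularEpiCategory.regularEpiOfEpi π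
  exact IsRegularEpi.exists_of_isKernelPair π sq φ h

theorem epi_of_locSurj {A B : Sp S} (π : A ⟶ B) [Sheaf.IsLocallySurjective π] : Epi π :=
  (Sheaf.isLocallySurjective_iff_epi _).1 ‹_›

/-- Locally surjective maps with the same kernel pair have isomorphic targets. -/
theorem exists_iso_of_sameKernel {A B B' C : Sp S} (π : A ⟶ B) (π' : A ⟶ B') [Sheaf.IsLocallySurjective π]
    [Sheaf.IsLocallySurjective π'] {a b : C ⟶ A} (sq : IsPullback a b π π) (sq' : IsPullback a b π' π') :
    ∃ e : B ≅ B', π ≫ e.hom = π' := by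
  obtain ⟨f, hf⟩ := exists_desc π sq π' sq'.w
  obtain ⟨g, hg⟩ := exists_desc π' sq' π sq.w
  haveI := epi_of_locSurj π
  haveI := epi_of_locSurj π'
  exact ⟨⟨f, g, (cancel_epi π).1 (by rw [reassoc_of% hf, hg, Category.comp_id]),
    (cancel_epi π').1 (by rw [reassoc_of% hg, hf, Category.comp_id])⟩, hf⟩

variable {R U : Over S} {Q : Sp S} (π : (yon S).obj U ⟶ Q)

/-- The chart of `Q ⨯ h_K` induced by a chart of `Q`. -/
def prodChart (K : Over S) : (yon S).obj (U ⊗ K) ⟶ Q ⨯ (yon S).obj K :=
  prod.lift ((yon S).map (fst U K) ≫ π) ((yon S).map (snd U K))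

@[reassoc (attr := simp)]
theorem prodChart_fst (K : Over S) : prodChart π K ≫ prod.fst = (yon S).map (fst U K) ≫ π :=
  prod.lift_fst _ _

@[reassoc (attr := simp)]
theorem prodChart_snd (K : Over S) : prodChart π K ≫ prod.snd = (yon S).map (snd U K) :=
  prod.lift_snd _ _

/-- `h_{U ⊗ K} ⟶ h_U ⨯ h_K` is an isomorphism. -/
theorem isIso_yonProd (U K : Over S) :
    IsIso (prod.lift ((yon S).map (fst U K)) ((yon S).map (snd U K))) := by
  refine GrothLib.AlgSp.isIso_of_yon fun T g => ?_
  obtain ⟨x, hx⟩ := (yon S).map_surjective (g ≫ prod.fst)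
  obtain ⟨y, hy⟩ := (yon S).map_surjective (g ≫ prod.snd)
  refine ⟨(yon S).map (lift x y), ?_, fun m hm => ?_⟩
  · apply Limits.prod.hom_ext <;>
      simp only [Category.assoc, prod.lift_fst, prod.lift_snd, ← Functor.map_comp, lift_fst, lift_snd,
        hx, hy]
  · obtain ⟨m, rfl⟩ := (yon S).map_surjective m
    congr 1
    apply CartesianMonoidalCategory.hom_ext <;> apply (yon S).map_injective
    · rw [lift_fst, hx, ← hm, Functor.map_comp, Category.assoc, prod.lift_fst]
    · rw [lift_snd, hy, ← hm, Functor.map_comp, Category.assoc, prod.lift_snd]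

instance isLocallySurjective_prodChart (K : Over S) [Sheaf.IsLocallySurjective π] :
    Sheaf.IsLocallySurjective (prodChart π K) := by
  haveI : Sheaf.IsLocallySurjective (𝟙 ((yon S).obj K)) :=
    (Sheaf.isLocallySurjective_iff_epi _).2 inferInstance
  haveI := GrothLib.AlgSp.isLocallySurjective_prodMap π (𝟙 ((yon S).obj K))
  haveI := epi_of_locSurj (Limits.prod.map π (𝟙 ((yon S).obj K)))
  let c : (yon S).obj (U ⊗ K) ⟶ (yon S).obj U ⨯ (yon S).obj K :=
    prod.lift ((yon S).map (fst U K)) ((yon S).map (snd U K))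
  haveI : IsIso c := isIso_yonProd U K
  have : prodChart π K = c ≫ Limits.prod.map π (𝟙 _) := by
    apply Limits.prod.hom_ext <;> simp [c]
  rw [Sheaf.isLocallySurjective_iff_epi, this]
  exact epi_comp _ _

theorem isPullback_prodChart {t s : R ⟶ U} (sq : IsPullback ((yon S).map t) ((yon S).map s) π π) (K : Over S) :
    IsPullback ((yon S).map (t ▷ K)) ((yon S).map (s ▷ K)) (prodChart π K) (prodChart π K) := by
  refine GrothLib.AlgSp.isPullback_of_yon ?_ fun T a b hab => ?_
  · apply Limits.prod.hom_ext
    · simp only [Category.assoc, prodChart_fst, ← Functor.map_comp_assoc, whiskerRight_fst]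
      simp only [Functor.map_comp, Category.assoc, sq.w]
    · simp only [Category.assoc, prodChart_snd, ← Functor.map_comp, whiskerRight_snd]
  · obtain ⟨a, rfl⟩ := (yon S).map_surjective a
    obtain ⟨b, rfl⟩ := (yon S).map_surjective b
    have h₁ := congrArg (fun x => x ≫ prod.fst) hab
    have h₂ := congrArg (fun x => x ≫ prod.snd) hab
    simp only [Category.assoc, prodChart_fst, prodChart_snd, ← Functor.map_comp_assoc, ← Functor.map_comp] at h₁ h₂
    have h₂' := (yon S).map_injective h₂
    obtain ⟨r, hr⟩ := (yon S).map_surjective (sq.lift _ _ h₁)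
    have hr₁ : r ≫ t = a ≫ fst U K := (yon S).map_injective (by rw [Functor.map_comp, hr, sq.lift_fst])
    have hr₂ : r ≫ s = b ≫ fst U K := (yon S).map_injective (by rw [Functor.map_comp, hr, sq.lift_snd])
    refine ⟨(yon S).map (lift r (a ≫ snd U K)), ⟨?_, ?_⟩, fun m hm => ?_⟩
    · rw [← Functor.map_comp]
      congr 1
      apply CartesianMonoidalCategory.hom_ext <;> simp [hr₁]
    · rw [← Functor.map_comp]
      congr 1
      apply CartesianMonoidalCategory.hom_ext <;> simp [hr₂, h₂']
    · obtain ⟨m, rfl⟩ := (yon S).map_surjective m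
      obtain ⟨hm₁, hm₂⟩ := hm
      rw [← Functor.map_comp] at hm₁ hm₂
      replace hm₁ := (yon S).map_injective hm₁
      replace hm₂ := (yon S).map_injective hm₂
      congr 1
      apply CartesianMonoidalCategory.hom_ext
      · apply (yon S).map_injective
        rw [lift_fst, hr]
        apply sq.hom_ext
        · rw [IsPullback.lift_fst, ← Functor.map_comp, ← hm₁, Category.assoc, Category.assoc, whiskerRight_fst]
        · rw [IsPullback.lift_snd, ← Functor.map_comp, ← hm₂, Category.assoc, Category.assoc, whiskerRight_fst]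
      · rw [lift_snd, ← hm₁, Category.assoc, whiskerRight_snd]

omit π in
/-- Products with a fixed sheaf preserve properties stable under base change. -/
theorem repWith_prodMap {P : MorphismProperty Scheme.{u}} {A B : Sp S} {j : A ⟶ B} (hj : RepWith P j)
    (K : Sp S) : RepWith P (Limits.prod.map j (𝟙 K)) := by
  have sq : IsPullback (prod.fst : A ⨯ K ⟶ A) (Limits.prod.map j (𝟙 K)) j (prod.fst : B ⨯ K ⟶ B) :=
    IsPullback.of_isLimit' ⟨(prod.map_fst j (𝟙 K)).symm⟩ (PullbackCone.IsLimit.mk _
    (fun c => prod.lift c.fst (c.snd ≫ prod.snd)) (fun c => prod.lift_fst _ _)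
    (fun c => by apply Limits.prod.hom_ext <;> simp [c.condition])
    (fun c m h₁ h₂ => by
      apply Limits.prod.hom_ext
      · rw [prod.lift_fst, ← h₁]
      · rw [prod.lift_snd, ← h₂, Category.assoc, prod.map_snd, Category.comp_id]))
  exact (repWith_isStableUnderBaseChange P).of_isPullback sq hj

/-- The chart of `Q ⨯ h_K` inherits properties stable under base change. -/
theorem repWith_prodChart {P : MorphismProperty Scheme.{u}} (h : RepWith P π) (K : Over S) :
    RepWith P (prodChart π K) := by
  haveI := isIso_yonProd U K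
  have : prodChart π K = prod.lift ((yon S).map (fst U K)) ((yon S).map (snd U K)) ≫
      Limits.prod.map π (𝟙 _) := by
    apply Limits.prod.hom_ext <;> simp
  rw [this]
  exact MorphismProperty.RespectsIso.precomp _ _ _ (repWith_prodMap h _)

/-- A space with an fppf chart locally of finite type is locally of finite type. -/
theorem locP_lft_of_chart (hQ : IsAlgSpace Q) (h₁ : RepWith @Flat π)
    (h₂ : RepWith @LocallyOfFinitePresentation π) (h₃ : RepWith @Surjective π) [LocallyOfFiniteType U.hom]
    (p : Q ⟶ (yon S).obj (Over.mk (𝟙 S))) : LocP @LocallyOfFiniteType p := by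
  have hT : IsAlgSpace ((yon S).obj (Over.mk (𝟙 S))) := IsAlgSpace.yon_obj _
  have hC := GrothLib.AlgSp.EtLocal.inf GrothLib.AlgSp.EtLocal.flat GrothLib.AlgSp.EtLocal.lfp
  haveI : IsZariskiLocalAtSource (@Flat ⊓ @LocallyOfFinitePresentation : MorphismProperty Scheme.{u}) :=
    inferInstance
  refine GrothLib.AlgSp.locP_of_surjective_source (C := @Flat ⊓ @LocallyOfFinitePresentation) hC
    (fun _ _ c hc => by have : Etale c := hc; exact ⟨inferInstance, inferInstance⟩)
    GrothLib.AlgSp.EtLocal.lft
    (GrothLib.AlgSp.srcDescends_fppf GrothLib.FppfSource.fppfSourceDescends_lft)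
    (IsAlgSpace.yon_obj U) hQ hT ?_ (GrothLib.AlgSp.surjective_map_of_repWith h₃) ?_
  · exact GrothLib.AlgSp.EtLocal.locP_of_repWith hC hQ
      ⟨h₁.1, fun a b g fst snd sq => ⟨h₁.2 g fst snd sq, h₂.2 g fst snd sq⟩⟩
  · obtain ⟨m, hm⟩ := (yon S).map_surjective (π ≫ p)
    refine GrothLib.AlgSp.EtLocal.locP_of_repWith GrothLib.AlgSp.EtLocal.lft hT ?_
    rw [← hm, repWith_yon_map_iff]
    have : m.left = U.hom := by
      have := Over.w m
      simpa using this
    rw [this]
    infer_instance

end GrothLib.QuotGrp14
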