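import Groth.Agent.Lib.QuotGrp14.Field
import Groth.Agent.Lib.Neutral.Artin
import Groth.Agent.Lib.GrpSchField.GrpDim
import Groth.Agent.Lib.CMMor6.LocalDim
import Groth.Agent.Lib.AlgSp.FieldFibreDim
import Groth.Agent.Lib.FibreBC.Basic
import Groth.Agent.Lib.FpqcQuot14.Cov

/-!
# Components and dimension of a quotient of a group scheme over a field

`component_facts`: connected components of the quotient are irreducible and quasi-compact;
`dim_component_add`: their dimension plus that of the subgroup is that of the group.
-/

universe u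

open CategoryTheory CategoryTheory.Limits MonoidalCategory CartesianMonoidalCategory MonObj GrpObj
open AlgebraicGeometry Topology

set_option backward.isDefEq.respectTransparency false

noncomputable section

namespace GrothLib.QuotGrp14

open _root_.AlgSp (yon Sp RepWith)

variable {k : Type u} [Field k] {F G X : Over (Spec (CommRingCat.of k))} [GrpObj F] [GrpObj G]
  [LocallyOfFiniteType F.hom] [LocallyOfFiniteType G.hom] (u : F ⟶ G) [IsMonHom u]
  [IsClosedImmersion u.left] (p : G ⟶ X) [Flat p.left] [Surjective p.left]
  [LocallyOfFinitePresentation p.left] (sq : IsPullback (act u) (snd F G) p p)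

include sq in
/-- Connected components of the quotient are open, irreducible and quasi-compact. -/
theorem component_facts (x : X.left) :
    IsOpen (connectedComponent x) ∧ IsIrreducible (connectedComponent x) ∧ IsCompact (connectedComponent x) := by
  haveI := GrothLib.AlgSp.isLocallySurjective_yonQuotπ (snd F G) (act u)
  haveI : Sheaf.IsLocallySurjective ((yon _).map p) :=
    GrothLib.AlgSp.isLocallySurjective_of_repWith ((_root_.AlgSp.repWith_yon_map_iff _ _).2 ‹Flat p.left›)
      ((_root_.AlgSp.repWith_yon_map_iff _ _).2 ‹LocallyOfFinitePresentation p.left›)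
      ((_root_.AlgSp.repWith_yon_map_iff _ _).2 ‹Surjective p.left›)
  obtain ⟨e₀, he₀⟩ := exists_iso_of_sameKernel ((yon _).map p) (proj u) (GrothLib.AlgSp.isPullback_yon sq)
    (isPullback_proj u)
  let kb := AlgebraicClosure k
  let j : Spec (CommRingCat.of kb) ⟶ Spec (CommRingCat.of k) :=
    Spec.map (CommRingCat.ofHom (algebraMap k kb))
  let K : Over (Spec (CommRingCat.of k)) := Over.mk j
  haveI := isIso_yonProd X K
  let e : (yon _).obj (X ⊗ K) ≅ quot u ⨯ (yon _).obj K :=
    asIso (Limits.prod.lift ((yon _).map (fst X K)) ((yon _).map (snd X K))) ≪≫ Limits.prod.mapIso e₀ (Iso.refl _)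
  have hπ : (yon _).map (snd X K) = e.hom ≫ Limits.prod.snd := by simp [e]
  have hq : (yon _).map (p ▷ K) ≫ e.hom = chart j u := by
    apply Limits.prod.hom_ext
    · simp only [e, chart, Iso.trans_hom, asIso_hom, Limits.prod.mapIso_hom, Category.assoc, prod.map_fst,
        prod.lift_fst_assoc, prodChart_fst, ← he₀, ← Functor.map_comp_assoc, whiskerRight_fst]
      simp only [Functor.map_comp, Category.assoc]
      exact (prodChart_fst ((yon _).map p ≫ e₀.hom) _).symm
    · simp only [e, chart, Iso.trans_hom, asIso_hom, Limits.prod.mapIso_hom, Category.assoc, prod.map_snd,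
        prod.lift_snd_assoc, prod.lift_snd, prodChart_snd, Iso.refl_hom, Category.comp_id, ← Functor.map_comp, whiskerRight_snd]
      exact (prodChart_snd (proj u) _).symm
  obtain ⟨h₁, h₂, h₃⟩ := prop_q j u hq
  haveI := h₁; haveI := h₂; haveI := h₃
  haveI : IsIntegralHom j := (IsIntegralHom.SpecMap_iff).mpr (Algebra.IsIntegral.isIntegral (R := k) (A := kb))
  haveI : UniversallyOpen j := inferInstance
  haveI := surjective_str j
  let π := (fst X K).left
  haveI : IsIntegralHom π := inferInstanceAs (IsIntegralHom (pullback.fst X.hom j))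
  haveI : UniversallyOpen π := inferInstanceAs (UniversallyOpen (pullback.fst X.hom j))
  haveI : Surjective π := inferInstanceAs (Surjective (pullback.fst X.hom j))
  obtain ⟨y, rfl⟩ := π.surjective x
  obtain ⟨g, rfl⟩ := h₃.surj y
  let O := (p ▷ K).left '' connectedComponent g
  have hOo : IsOpen O := (p ▷ K).left.isOpenMap _ (isOpen_connectedComponent j g)
  have hOc : IsClosed O := by
    refine ⟨isOpen_iff_forall_mem_open.2 fun z hz => ?_⟩
    obtain ⟨w, rfl⟩ := h₃.surj z
    refine ⟨(p ▷ K).left '' connectedComponent w, fun z' hz' hz'' => hz ?_,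
      (p ▷ K).left.isOpenMap _ (isOpen_connectedComponent j w), w, mem_connectedComponent, rfl⟩
    obtain ⟨a, ha⟩ := exists_pt_mem j (G := G) ⟨w, mem_connectedComponent⟩
      (isOpen_connectedComponent j w).isLocallyClosed
    obtain ⟨b, hb⟩ := exists_pt_mem j (G := G) ⟨g, mem_connectedComponent⟩
      (isOpen_connectedComponent j g).isLocallyClosed
    rw [connectedComponent_eq ha] at hz'
    simp only [O, connectedComponent_eq hb] at hz'' ⊢
    exact (Set.ext_iff.1 (image_component_eq j u hπ hq ⟨z', hz', hz''⟩) _).1
      ⟨w, by rw [← connectedComponent_eq ha]; exact mem_connectedComponent, rfl⟩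
  have hOi : IsIrreducible O :=
    (isIrreducible_connectedComponent j g).image _ (p ▷ K).left.continuous.continuousOn
  have hOk : IsCompact O := by
    haveI := lft_bar j (G := G)
    exact (GrothLib.Neutral.isCompact_connectedComponent (bar j G) g).image (p ▷ K).left.continuous
  have hC : connectedComponent (π ((p ▷ K).left g)) = π '' O := by
    refine Set.Subset.antisymm ?_ ?_
    · exact IsClopen.connectedComponent_subset ⟨π.isClosedMap _ hOc, π.isOpenMap _ hOo⟩
        ⟨_, ⟨g, mem_connectedComponent, rfl⟩, rfl⟩
    · exact (hOi.image π π.continuous.continuousOn).isConnected.subset_connectedComponent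
        ⟨_, ⟨g, mem_connectedComponent, rfl⟩, rfl⟩
  rw [hC]
  exact ⟨π.isOpenMap _ hOo, hOi.image π π.continuous.continuousOn, hOk.image π.continuous⟩

include sq in
/-- The fibres of the quotient morphism have the dimension of the subgroup. -/
theorem dim_fiber (g : G.left) :
    topologicalKrullDim ↥(p.left.fiber (p.left g)) = topologicalKrullDim ↥F.left := by
  let K := G.left.residueField g
  let P : Over (Spec (CommRingCat.of k)) := Over.mk (G.left.fromSpecResidueField g ≫ G.hom)
  let gam : P ⟶ G := Over.homMk (G.left.fromSpecResidueField g) rfl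
  have sq₁ := (GrothLib.FpqcQuot14.isPullback_whiskerLeft gam F).flip
  have sq₂ := (sq₁.paste_horiz sq).map (Over.forget _)
  haveI : LocallyOfFiniteType p.left := inferInstance
  haveI : LocallyOfFiniteType ((Over.forget _).map p) := inferInstanceAs (LocallyOfFiniteType p.left)
  have h := GrothLib.FibreBC.topologicalKrullDim_fiber sq₂ (IsLocalRing.closedPoint K)
  have hpt : ((Over.forget _).map (gam ≫ p)) (IsLocalRing.closedPoint K) = p.left g := by
    change p.left (G.left.fromSpecResidueField g (IsLocalRing.closedPoint K)) = _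
    rw [Scheme.fromSpecResidueField_apply]
  replace h := h.trans (congrArg (fun y => topologicalKrullDim ↥(p.left.fiber y)) hpt)
  rw [← h]
  have hsub : Subsingleton ↥P.left := inferInstanceAs (Subsingleton (PrimeSpectrum K))
  let f' := (Over.forget _).map (snd F P)
  have hsurj : Function.Surjective (f'.fiberι (IsLocalRing.closedPoint K)) := fun z => by
    have hz : f' z = IsLocalRing.closedPoint K := @Subsingleton.elim _ hsub _ _
    have : z ∈ Set.range (f'.fiberι (IsLocalRing.closedPoint K)) := by
      rw [f'.range_fiberι]; exact hz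
    exact this
  rw [((f'.fiberι (IsLocalRing.closedPoint K)).isEmbedding.toHomeomorphOfSurjective hsurj).isHomeomorph.topologicalKrullDim_eq]
  exact GrothLib.CurveLocus.topologicalKrullDim_of_isPullback (k := k) (Ω := K) F.hom
    (IsPullback.of_hasPullback F.hom P.hom)

include sq in
/-- The dimension formula. -/
theorem dim_component_add [LocallyOfFiniteType X.hom] (x : X.left) :
    topologicalKrullDim ↥(connectedComponent x) + topologicalKrullDim ↥F.left = topologicalKrullDim ↥G.left := by
  obtain ⟨hCo, hCi, -⟩ := component_facts u p sq x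
  obtain ⟨n, hn, -⟩ := GrothLib.Dim.exists_nat_dim_irreducible X.hom isClosed_connectedComponent hCi
  haveI : JacobsonSpace ↥X.left := LocallyOfFiniteType.jacobsonSpace X.hom
  obtain ⟨x₀, hx₀, hx₀c⟩ := nonempty_inter_closedPoints ⟨x, mem_connectedComponent⟩
    isClosed_connectedComponent.isLocallyClosed
  have hst : ringKrullDim (X.left.presheaf.stalk x₀) = topologicalKrullDim ↥(connectedComponent x) :=
    GrothLib.GrpSchField.ringKrullDim_stalk_eq_of_isClosed X.hom isClosed_connectedComponent hCo hCi hx₀ hx₀c
  obtain ⟨g, rfl⟩ := p.left.surjective x₀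
  haveI : IsLocallyNoetherian X.left := LocallyOfFiniteType.isLocallyNoetherian X.hom
  haveI : IsLocallyNoetherian G.left := LocallyOfFiniteType.isLocallyNoetherian G.hom
  let Φ := p.left.fiber (p.left g)
  let emb := p.left.fiberι (p.left g)
  have hfib : LocallyOfFiniteType (p.left.fiberToSpecResidueField (p.left g)) :=
    MorphismProperty.pullback_snd p.left _ inferInstance
  haveI : JacobsonSpace ↥Φ := LocallyOfFiniteType.jacobsonSpace (p.left.fiberToSpecResidueField (p.left g))
  have key : ∀ z : Φ, IsClosed ({z} : Set Φ) →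
      topologicalKrullDim ↥(connectedComponent x) + ringKrullDim (Φ.presheaf.stalk z) =
        topologicalKrullDim ↥G.left := by
    intro z hz
    have hzx : p.left (emb z) = p.left g := by
      have : emb z ∈ Set.range emb := ⟨z, rfl⟩
      rw [p.left.range_fiberι] at this
      exact this
    have hι : IsClosed (Set.range emb) := by
      rw [p.left.range_fiberι]
      exact hx₀c.preimage p.left.continuous
    have hzc : IsClosed ({emb z} : Set G.left) := by
      rw [← Set.image_singleton]
      exact (Topology.IsClosedEmbedding.mk emb.isEmbedding hι).isClosedMap _ hz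
    have h := GrothLib.CMMor6.ringKrullDim_stalk_eq_add p.left (emb z) (Flat.stalkMap p.left _)
    rw [GrothLib.GrpSchField.ringKrullDim_stalk_eq G hzc] at h
    rw [h]
    obtain ⟨w, hw⟩ : ∃ w : G.left, w = emb z := ⟨_, rfl⟩
    have aux : ∀ (w : G.left) (y : X.left) (hy : p.left w = y) (z : p.left.fiber y), (p.left.fiberι y) z = w →
        ringKrullDim (X.left.presheaf.stalk (p.left w)) +
          ringKrullDim ((p.left.fiber (p.left w)).presheaf.stalk (p.left.asFiber w)) =
        ringKrullDim (X.left.presheaf.stalk y) + ringKrullDim ((p.left.fiber y).presheaf.stalk z) := by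
      rintro w y rfl z hz
      have : z = p.left.asFiber w := (p.left.fiberι _).isEmbedding.injective (by rw [hz, p.left.fiberι_asFiber])
      rw [this]
    rw [aux (emb z) _ hzx z rfl, hst]
  refine le_antisymm ?_ ?_
  · rw [hn, ← dim_fiber u p sq g, GrothLib.AlgSp.topologicalKrullDim_eq_iSup_stalk Φ]
    refine GrothLib.AffDom.add_iSup_le n fun z => ?_
    obtain ⟨z₀, hz₀, hz₀c⟩ := nonempty_inter_closedPoints (Z := closure {z}) ⟨z, subset_closure rfl⟩
      isClosed_closure.isLocallyClosed
    rw [← key z₀ hz₀c, hn]
    refine add_le_add le_rfl ?_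
    rw [ringKrullDim_stalk_eq_coheight, ringKrullDim_stalk_eq_coheight]
    exact_mod_cast Order.coheight_anti (show z₀ ≤ z from specializes_iff_mem_closure.2 hz₀)
  · obtain ⟨z₀, -, hz₀c⟩ := nonempty_inter_closedPoints (Z := (Set.univ : Set Φ))
      ⟨p.left.asFiber g, trivial⟩ isClosed_univ.isLocallyClosed
    rw [← key z₀ hz₀c, ← dim_fiber u p sq g]
    refine add_le_add le_rfl ?_
    rw [GrothLib.AlgSp.topologicalKrullDim_eq_iSup_stalk Φ]
    exact le_iSup (fun z : Φ => ringKrullDim (Φ.presheaf.stalk z)) z₀

end GrothLib.QuotGrp14
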