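import Groth.Prelude.Def_Red
import Groth.Prelude.Def_AlgGrp
import Groth.Agent.Lib.GrpSchField.Components
import Mathlib.AlgebraicGeometry.AlgClosed.Basic
import Mathlib.Topology.JacobsonSpace

/-!
# Rational points and translations of a group scheme over an algebraically closed extension

For `K = Spec k̄` over `Spec k`: `pt g` is the point of `G ⊗ K` given by `g : K ⟶ G`; `rightT`, `leftT`
are the translations; connected components are open and irreducible.
-/

universe u

open CategoryTheory CategoryTheory.Limits MonoidalCategory CartesianMonoidalCategory MonObj GrpObj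
open AlgebraicGeometry Topology

set_option backward.isDefEq.respectTransparency false

noncomputable section

namespace GrothLib.QuotGrp14

variable {k kb : Type u} [Field k] [Field kb] (j : Spec (CommRingCat.of kb) ⟶ Spec (CommRingCat.of k))
variable {G : Over (Spec (CommRingCat.of k))}

/-- The point of `G ⊗ K` given by a `K`-point of `G`. -/
def pt (g : Over.mk j ⟶ G) : ↥(G ⊗ Over.mk j).left :=
  (lift g (𝟙 (Over.mk j))).left (IsLocalRing.closedPoint kb)

theorem lift_snd_left (g : Over.mk j ⟶ G) :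
    (lift g (𝟙 (Over.mk j))).left ≫ (snd G (Over.mk j)).left = 𝟙 _ := by
  rw [← Over.comp_left, lift_snd]; rfl

theorem lft_snd [LocallyOfFiniteType G.hom] : LocallyOfFiniteType (snd G (Over.mk j)).left :=
  MorphismProperty.pullback_snd _ _ ‹_›

/-- Two sections through the same point are equal. -/
theorem section_ext [IsAlgClosed kb] {Y : Over (Spec (CommRingCat.of k))} (π : Y ⟶ Over.mk j)
    [LocallyOfFiniteType π.left] {a b : Over.mk j ⟶ Y} (ha : a ≫ π = 𝟙 _) (hb : b ≫ π = 𝟙 _)
    (h : a.left (IsLocalRing.closedPoint kb) = b.left (IsLocalRing.closedPoint kb)) : a = b :=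
  Over.OverMorphism.ext (ext_of_apply_closedPoint_eq (K := kb) π.left
    (by rw [← Over.comp_left, ha]; rfl) (by rw [← Over.comp_left, hb]; rfl) h)

/-- A closed point is given by a section. -/
theorem exists_section [IsAlgClosed kb] {Y : Over (Spec (CommRingCat.of k))} (π : Y ⟶ Over.mk j)
    [LocallyOfFiniteType π.left] {y : ↥Y.left} (hy : IsClosed ({y} : Set ↥Y.left)) :
    ∃ a : Over.mk j ⟶ Y, a ≫ π = 𝟙 _ ∧ a.left (IsLocalRing.closedPoint kb) = y := by
  let σ : (Over.mk j).left ⟶ Y.left := pointOfClosedPoint (K := kb) π.left y hy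
  have hσ : σ ≫ π.left = 𝟙 _ := pointOfClosedPoint_comp π.left y hy
  refine ⟨Over.homMk σ ?_, Over.OverMorphism.ext hσ, pointOfClosedPoint_apply π.left y hy _⟩
  rw [← Over.w π, reassoc_of% hσ]

theorem isClosed_section [IsAlgClosed kb] {Y : Over (Spec (CommRingCat.of k))} (π : Y ⟶ Over.mk j)
    [LocallyOfFiniteType π.left] {a : Over.mk j ⟶ Y} (ha : a ≫ π = 𝟙 _) :
    IsClosed ({a.left (IsLocalRing.closedPoint kb)} : Set ↥Y.left) :=
  (pointEquivClosedPoint (K := kb) π.left ⟨a.left, by rw [← Over.comp_left, ha]; rfl⟩).2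

theorem exists_pt [IsAlgClosed kb] [LocallyOfFiniteType G.hom] {y : ↥(G ⊗ Over.mk j).left}
    (hy : IsClosed ({y} : Set ↥(G ⊗ Over.mk j).left)) : ∃ g, pt j g = y := by
  haveI := lft_snd j (G := G)
  obtain ⟨a, ha, hay⟩ := exists_section j (snd G (Over.mk j)) hy
  refine ⟨a ≫ fst G (Over.mk j), ?_⟩
  rw [pt, ← hay]
  congr 2
  conv_rhs => rw [← lift_comp_fst_snd a, ha]

theorem isClosed_pt [IsAlgClosed kb] [LocallyOfFiniteType G.hom] (g : Over.mk j ⟶ G) :
    IsClosed ({pt j g} : Set ↥(G ⊗ Over.mk j).left) := by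
  haveI := lft_snd j (G := G)
  exact isClosed_section j (snd G (Over.mk j)) (lift_snd _ _)

theorem jacobsonSpace_tensor [LocallyOfFiniteType G.hom] : JacobsonSpace ↥(G ⊗ Over.mk j).left := by
  haveI := lft_snd j (G := G)
  haveI : JacobsonSpace ↥(Over.mk j).left := inferInstanceAs (JacobsonSpace ↥(Spec (CommRingCat.of kb)))
  exact LocallyOfFiniteType.jacobsonSpace (snd G (Over.mk j)).left

/-- A nonempty locally closed set contains a rational point. -/
theorem exists_pt_mem [IsAlgClosed kb] [LocallyOfFiniteType G.hom] {s : Set ↥(G ⊗ Over.mk j).left}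
    (hne : s.Nonempty) (hs : IsLocallyClosed s) : ∃ g, pt j g ∈ s := by
  haveI := jacobsonSpace_tensor j (G := G)
  obtain ⟨y, hy, hy'⟩ := nonempty_inter_closedPoints hne hs
  obtain ⟨g, rfl⟩ := exists_pt j hy'
  exact ⟨g, hy⟩

variable [GrpObj G]

/-- Right translation by `c`. -/
def rightT (c : Over.mk j ⟶ G) : G ⊗ Over.mk j ⟶ G ⊗ Over.mk j :=
  lift (fst G (Over.mk j) * (snd G (Over.mk j) ≫ c)) (snd G (Over.mk j))

/-- Left translation by `a`. -/
def leftT (a : Over.mk j ⟶ G) : G ⊗ Over.mk j ⟶ G ⊗ Over.mk j :=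
  lift ((snd G (Over.mk j) ≫ a) * fst G (Over.mk j)) (snd G (Over.mk j))

@[simp] theorem rightT_snd (c : Over.mk j ⟶ G) : rightT j c ≫ snd G (Over.mk j) = snd G (Over.mk j) :=
  lift_snd _ _

theorem lift_rightT {T : Over (Spec (CommRingCat.of k))} (g : T ⟶ G) (x : T ⟶ Over.mk j)
    (c : Over.mk j ⟶ G) : lift g x ≫ rightT j c = lift (g * (x ≫ c)) x := by
  simp [rightT, comp_lift, MonObj.comp_mul]

theorem lift_leftT {T : Over (Spec (CommRingCat.of k))} (g : T ⟶ G) (x : T ⟶ Over.mk j)
    (a : Over.mk j ⟶ G) : lift g x ≫ leftT j a = lift ((x ≫ a) * g) x := by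
  simp [leftT, comp_lift, MonObj.comp_mul]

theorem rightT_pt (c g : Over.mk j ⟶ G) : (rightT j c).left (pt j g) = pt j (g * c) := by
  rw [pt, pt, ← Scheme.Hom.comp_apply, ← Over.comp_left, lift_rightT, Category.id_comp]

theorem leftT_pt (a g : Over.mk j ⟶ G) : (leftT j a).left (pt j g) = pt j (a * g) := by
  rw [pt, pt, ← Scheme.Hom.comp_apply, ← Over.comp_left, lift_leftT, Category.id_comp]

theorem rightT_comp (c c' : Over.mk j ⟶ G) : rightT j c ≫ rightT j c' = rightT j (c * c') := by
  conv_lhs => enter [1]; rw [rightT]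
  rw [lift_rightT, rightT, _root_.mul_assoc, MonObj.comp_mul]

theorem leftT_comp (a a' : Over.mk j ⟶ G) : leftT j a ≫ leftT j a' = leftT j (a' * a) := by
  conv_lhs => enter [1]; rw [leftT]
  rw [lift_leftT, leftT, ← _root_.mul_assoc, MonObj.comp_mul]

theorem rightT_one : rightT j (1 : Over.mk j ⟶ G) = 𝟙 _ := by
  rw [rightT, MonObj.comp_one, _root_.mul_one, lift_fst_snd]

theorem leftT_one : leftT j (1 : Over.mk j ⟶ G) = 𝟙 _ := by
  rw [leftT, MonObj.comp_one, _root_.one_mul, lift_fst_snd]

/-- Right translation as an isomorphism. -/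
def rightTIso (c : Over.mk j ⟶ G) : G ⊗ Over.mk j ≅ G ⊗ Over.mk j where
  hom := rightT j c
  inv := rightT j c⁻¹
  hom_inv_id := by rw [rightT_comp, mul_inv_cancel, rightT_one]
  inv_hom_id := by rw [rightT_comp, inv_mul_cancel, rightT_one]

/-- Left translation as an isomorphism. -/
def leftTIso (a : Over.mk j ⟶ G) : G ⊗ Over.mk j ≅ G ⊗ Over.mk j where
  hom := leftT j a
  inv := leftT j a⁻¹
  hom_inv_id := by rw [leftT_comp, inv_mul_cancel, leftT_one]
  inv_hom_id := by rw [leftT_comp, mul_inv_cancel, leftT_one]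

omit [GrpObj G] in
theorem image_connectedComponent_iso {X Y : Over (Spec (CommRingCat.of k))} (e : X ≅ Y) (x : ↥X.left) :
    e.hom.left '' connectedComponent x = connectedComponent (e.hom.left x) := by
  refine Set.Subset.antisymm (Continuous.image_connectedComponent_subset e.hom.left.continuous x) fun y hy => ?_
  have h := Continuous.image_connectedComponent_subset e.inv.left.continuous (e.hom.left x) ⟨y, hy, rfl⟩
  rw [← Scheme.Hom.comp_apply, ← Over.comp_left, e.hom_inv_id] at h
  refine ⟨_, h, ?_⟩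
  rw [← Scheme.Hom.comp_apply, ← Over.comp_left, e.inv_hom_id]
  rfl

variable [LocallyOfFiniteType G.hom]

/-- `G ⊗ K` as a group scheme over `K`. -/
abbrev bar (G : Over (Spec (CommRingCat.of k))) : Over (Spec (CommRingCat.of kb)) := Red.bc j G

theorem lft_bar : LocallyOfFiniteType (bar j G).hom :=
  MorphismProperty.pullback_snd _ _ ‹LocallyOfFiniteType G.hom›

theorem isOpen_connectedComponent (y : ↥(G ⊗ Over.mk j).left) : IsOpen (connectedComponent y) := by
  haveI := lft_bar j (G := G)
  have h := GrothLib.GrpSchField.connectedComponent_eq_irreducibleComponent (bar j G) y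
  have h' := GrothLib.GrpSchField.isOpen_of_mem_irreducibleComponents (bar j G)
    (irreducibleComponent_mem_irreducibleComponents y)
  exact h ▸ h'

theorem isIrreducible_connectedComponent (y : ↥(G ⊗ Over.mk j).left) :
    IsIrreducible (connectedComponent y) := by
  haveI := lft_bar j (G := G)
  have h := GrothLib.GrpSchField.connectedComponent_eq_irreducibleComponent (bar j G) y
  exact h ▸ isIrreducible_irreducibleComponent

end GrothLib.QuotGrp14
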