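import Groth.Agent.Lib.QuotGrp14.Sheaf
import Groth.Agent.Lib.QuotGrp14.Chart
import Groth.Agent.Lib.QuotGrp14.Pts
import Groth.Agent.Lib.AlgSp.Glue
import Groth.Agent.S10337
import Groth.Agent.S10493
import Mathlib.AlgebraicGeometry.Morphisms.FlatDescent

/-!
# Quotients of group schemes over a field are schemes

`exists_bar`: over an algebraically closed extension the quotient sheaf is a scheme (translates of a dense
open subscheme); `exists_affine_of_finite`: finitely many rational points lie in an affine open;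
`isRepresentable_quot`: the quotient sheaf over the field is a scheme.
-/

universe u

open CategoryTheory CategoryTheory.Limits MonoidalCategory CartesianMonoidalCategory MonObj GrpObj
open AlgebraicGeometry Topology

set_option backward.isDefEq.respectTransparency false

noncomputable section

namespace GrothLib.QuotGrp14

open _root_.AlgSp (yon Sp RepWith Points)

variable {k kb : Type u} [Field k] [Field kb] [IsAlgClosed kb]
  (j : Spec (CommRingCat.of kb) ⟶ Spec (CommRingCat.of k))
variable {F G : Over (Spec (CommRingCat.of k))} [GrpObj F] [GrpObj G]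
  [LocallyOfFiniteType F.hom] [LocallyOfFiniteType G.hom]
  (u : F ⟶ G) [IsMonHom u] [IsClosedImmersion u.left]

omit u in
theorem isAffineOpen_inter' {X : Scheme.{u}} {U V : X.Opens} (hU : IsAffineOpen U) [IsAffineHom V.ι] :
    IsAffineOpen (U ⊓ V) := by
  have h1 : IsAffineOpen (V.ι ''ᵁ (V.ι ⁻¹ᵁ U)) := (hU.preimage V.ι).image_of_isOpenImmersion V.ι
  rwa [Scheme.Hom.image_preimage_eq_opensRange_inf, Scheme.Opens.opensRange_ι, inf_comm] at h1

instance mono_of_closedImmersion : Mono u :=
  (Over.forget _).mono_of_mono_map (inferInstanceAs (Mono u.left))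

instance lfp_of_field (F : Over (Spec (CommRingCat.of k))) [LocallyOfFiniteType F.hom] :
    LocallyOfFinitePresentation F.hom :=
  haveI : IsLocallyNoetherian (Spec (CommRingCat.of k)) := inferInstance
  inferInstance

instance flat_of_field (F : Over (Spec (CommRingCat.of k))) : Flat F.hom := by
  infer_instance

theorem surjective_str : Surjective j :=
  ⟨fun x => ⟨IsLocalRing.closedPoint kb, @Subsingleton.elim _ (inferInstanceAs (Subsingleton (PrimeSpectrum k))) _ _⟩⟩

/-- The chart of the base change of the quotient sheaf. -/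
abbrev chart : (yon _).obj (G ⊗ Over.mk j) ⟶ quot u ⨯ (yon _).obj (Over.mk j) :=
  prodChart (proj u) (Over.mk j)

theorem isPullback_chart :
    IsPullback ((yon _).map (act u ▷ Over.mk j)) ((yon _).map (snd F G ▷ Over.mk j)) (chart j u) (chart j u) :=
  isPullback_prodChart _ (isPullback_proj u) _

instance isLocallySurjective_chart : Sheaf.IsLocallySurjective (chart j u) :=
  haveI := GrothLib.AlgSp.isLocallySurjective_yonQuotπ (snd F G) (act u)
  isLocallySurjective_prodChart _ _

theorem repWith_chart : RepWith @Flat (chart j u) ∧ RepWith @LocallyOfFinitePresentation (chart j u) ∧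
    RepWith @Surjective (chart j u) :=
  ⟨repWith_prodChart _ (chart_facts u).2.1 _, repWith_prodChart _ (chart_facts u).2.2.1 _,
    repWith_prodChart _ (chart_facts u).2.2.2 _⟩

/-- The chart is invariant under left translation by the subgroup. -/
theorem leftT_chart (f : Over.mk j ⟶ F) : (yon _).map (leftT j (f ≫ u)) ≫ chart j u = chart j u := by
  let K := Over.mk j
  let r : G ⊗ K ⟶ (F ⊗ G) ⊗ K := lift (lift (snd G K ≫ f) (fst G K)) (snd G K)
  have h₁ : r ≫ (act u ▷ K) = leftT j (f ≫ u) := by
    apply CartesianMonoidalCategory.hom_ext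
    · rw [leftT, Category.assoc, whiskerRight_fst, lift_fst, lift_fst_assoc, lift_act, Category.assoc]
    · rw [leftT, Category.assoc, whiskerRight_snd, lift_snd, lift_snd]
  have h₂ : r ≫ (snd F G ▷ K) = 𝟙 _ := by
    apply CartesianMonoidalCategory.hom_ext
    · rw [Category.assoc, whiskerRight_fst, lift_fst_assoc, lift_snd, Category.id_comp]
    · rw [Category.assoc, whiskerRight_snd, lift_snd, Category.id_comp]
  rw [← h₁, Functor.map_comp, Category.assoc, (isPullback_chart j u).w, ← Functor.map_comp_assoc, h₂,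
    (yon _).map_id, Category.id_comp]

/-- Right translations descend to the quotient. -/
theorem exists_translate (c : Over.mk j ⟶ G) :
    ∃ τ : quot u ⨯ (yon _).obj (Over.mk j) ≅ quot u ⨯ (yon _).obj (Over.mk j),
      chart j u ≫ τ.hom = (yon _).map (rightT j c) ≫ chart j u := by
  let K := Over.mk j
  have key : ∀ c : K ⟶ G, ∃ τ, chart j u ≫ τ = (yon _).map (rightT j c) ≫ chart j u := fun c => by
    let ρ : (F ⊗ G) ⊗ K ⟶ (F ⊗ G) ⊗ K :=
      lift (lift (fst (F ⊗ G) K ≫ fst F G) (fst (F ⊗ G) K ≫ snd F G * (snd (F ⊗ G) K ≫ c))) (snd (F ⊗ G) K)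
    have h₁ : ρ ≫ (act u ▷ K) = (act u ▷ K) ≫ rightT j c := by
      apply CartesianMonoidalCategory.hom_ext
      · simp [ρ, K, rightT, lift_act, comp_act, MonObj.comp_mul, _root_.mul_assoc, comp_lift]
        exact (Hom.mul_def _ _).symm
      · rw [Category.assoc, whiskerRight_snd, lift_snd, Category.assoc, rightT_snd, whiskerRight_snd]
    have h₂ : ρ ≫ (snd F G ▷ K) = (snd F G ▷ K) ≫ rightT j c := by
      apply CartesianMonoidalCategory.hom_ext
      · rw [Category.assoc, whiskerRight_fst, lift_fst_assoc, lift_snd, Category.assoc, rightT, lift_fst,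
          MonObj.comp_mul, whiskerRight_fst, whiskerRight_snd_assoc]
      · rw [Category.assoc, whiskerRight_snd, lift_snd, Category.assoc, rightT_snd, whiskerRight_snd]
    refine exists_desc (chart j u) (isPullback_chart j u) _ ?_
    rw [← Functor.map_comp_assoc, ← Functor.map_comp_assoc, ← h₁, ← h₂, Functor.map_comp, Functor.map_comp,
      Category.assoc, Category.assoc, (isPullback_chart j u).w]
  obtain ⟨a, ha⟩ := key c
  obtain ⟨b, hb⟩ := key c⁻¹
  haveI := epi_of_locSurj (chart j u)
  refine ⟨⟨a, b, (cancel_epi (chart j u)).1 ?_, (cancel_epi (chart j u)).1 ?_⟩, ha⟩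
  · rw [reassoc_of% ha, hb, ← Functor.map_comp_assoc, rightT_comp, mul_inv_cancel, rightT_one,
      (yon _).map_id, Category.id_comp, Category.comp_id]
  · rw [reassoc_of% hb, ha, ← Functor.map_comp_assoc, rightT_comp, inv_mul_cancel, rightT_one,
      (yon _).map_id, Category.id_comp, Category.comp_id]

theorem surjective_fst (X : Over (Spec (CommRingCat.of k))) : Surjective (fst X (Over.mk j)).left :=
  MorphismProperty.pullback_fst (P := @Surjective) _ _ (surjective_str j)

/-- A nonempty open subscheme of the base change of the quotient sheaf, with a nonempty open of the chart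
mapping to it. -/
theorem exists_open_piece :
    ∃ (X W : Over (Spec (CommRingCat.of k))) (f : (yon _).obj X ⟶ quot u ⨯ (yon _).obj (Over.mk j))
      (i : W ⟶ G ⊗ Over.mk j) (m : W ⟶ X), RepWith @IsOpenImmersion f ∧ IsOpenImmersion i.left ∧
      Nonempty ↥W.left ∧ (yon _).map m ≫ f = (yon _).map i ≫ chart j u := by
  obtain ⟨X', j0, hj0, hrep, hd⟩ := Groth.Agent.S10337.result ⟨quot u, isAlgSpace_quot u⟩ (isDecent_quot u)
  obtain ⟨X0, ⟨r⟩⟩ := hrep.has_representation
  let e0 := _root_.AlgSp.isoOfRepresentableBy r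
  let f0 : (yon _).obj X0 ⟶ quot u := e0.hom ≫ j0.hom
  have hf0 : RepWith @IsOpenImmersion f0 := MorphismProperty.RespectsIso.precomp _ _ _ hj0
  obtain ⟨W0, m0', i0, sq⟩ := GrothLib.AlgSp.exists_isPullback_of_representable hf0.1 (proj u)
  obtain ⟨m0, rfl⟩ := (yon _).map_surjective m0'
  haveI hi0 : IsOpenImmersion i0.left := hf0.2 _ _ _ sq
  haveI : Nonempty (Points (quot u)) :=
    ⟨Points.ofPt (proj u) (η[G].left (IsLocalRing.closedPoint k))⟩
  obtain ⟨z, hz⟩ := hd.nonempty
  obtain ⟨p, rfl⟩ := hz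
  obtain ⟨y, hy⟩ := GrothLib.AlgSp.surjective_ofPt_of_repWith (chart_facts u).2.2.2 (Points.map j0.hom p)
  have hy' : y ∈ Set.range i0.left := by
    rw [← GrothLib.AlgSp.preimage_range_map sq]
    refine ⟨Points.map e0.inv p, ?_⟩
    rw [← Points.map_comp, ← Category.assoc, e0.inv_hom_id, Category.id_comp, hy]
  refine ⟨X0 ⊗ Over.mk j, W0 ⊗ Over.mk j, prodChart f0 _, i0 ▷ _, m0 ▷ _, repWith_prodChart _ hf0 _,
    GrothLib.GrpSchField.whiskerRight_property @IsOpenImmersion i0 _ hi0, ?_, ?_⟩
  · obtain ⟨w, -⟩ := hy'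
    obtain ⟨w', -⟩ := (surjective_fst j W0).surj w
    exact ⟨w'⟩
  · apply Limits.prod.hom_ext
    · simp only [Category.assoc, prodChart_fst, ← Functor.map_comp_assoc, whiskerRight_fst]
      simp only [Functor.map_comp, Category.assoc, sq.w]
    · simp only [Category.assoc, prodChart_snd, ← Functor.map_comp, whiskerRight_snd]

/-- The base change of the quotient sheaf is a scheme. -/
theorem exists_bar :
    ∃ (T : Over (Spec (CommRingCat.of k))) (e : (yon _).obj T ≅ quot u ⨯ (yon _).obj (Over.mk j))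
      (q : G ⊗ Over.mk j ⟶ T) (π : T ⟶ Over.mk j),
      (yon _).map π = e.hom ≫ Limits.prod.snd ∧ (yon _).map q ≫ e.hom = chart j u := by
  obtain ⟨X, W, f, i, m, hf, hi, hW, hw⟩ := exists_open_piece j u
  haveI := hi
  choose τ hτ using fun c => exists_translate j u c
  obtain ⟨T, e, -⟩ := GrothLib.AlgSp.exists_iso_yon_of_openCover (fun _ : Over.mk j ⟶ G => X)
    (fun c => f ≫ (τ c).hom) (fun c => MorphismProperty.RespectsIso.postcomp _ _ _ hf) fun x => by
    obtain ⟨y, rfl⟩ := GrothLib.AlgSp.surjective_ofPt_of_repWith (repWith_chart j u).2.2 x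
    obtain ⟨a, ha⟩ := exists_pt_mem j (G := G) (s := closure {y}) ⟨y, subset_closure rfl⟩
      isClosed_closure.isLocallyClosed
    obtain ⟨b, hb⟩ := exists_pt_mem j (G := G) (s := Set.range i.left) (Set.range_nonempty i.left)
      i.left.isOpenEmbedding.isOpen_range.isLocallyClosed
    let c := b⁻¹ * a
    have hopen : IsOpen ((rightTIso j c).inv.left ⁻¹' Set.range i.left) :=
      i.left.isOpenEmbedding.isOpen_range.preimage (rightTIso j c).inv.left.continuous
    have hmem : pt j a ∈ (rightTIso j c).inv.left ⁻¹' Set.range i.left := by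
      change (rightT j c⁻¹).left (pt j a) ∈ Set.range i.left
      rwa [rightT_pt, show a * c⁻¹ = b by simp [c]]
    obtain ⟨w, hw'⟩ := (specializes_iff_mem_closure.2 ha).mem_open hopen hmem
    refine ⟨c, Points.ofPt ((yon _).map m) w, ?_⟩
    rw [Points.map_ofPt, reassoc_of% hw, hτ, ← Functor.map_comp_assoc,
      GrothLib.AlgSp.ofPt_map_comp]
    congr 1
    rw [Over.comp_left, Scheme.Hom.comp_apply, hw', ← Scheme.Hom.comp_apply, ← Over.comp_left,
      show rightT j c = (rightTIso j c).hom from rfl, Iso.inv_hom_id]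
    rfl
  obtain ⟨q, hq⟩ := (yon _).map_surjective (chart j u ≫ e.inv)
  obtain ⟨π, hπ⟩ := (yon _).map_surjective (e.hom ≫ Limits.prod.snd)
  exact ⟨T, e, q, π, hπ, by rw [hq, Category.assoc, e.inv_hom_id, Category.comp_id]⟩

section Bar

variable {T : Over (Spec (CommRingCat.of k))} {e : (yon _).obj T ≅ quot u ⨯ (yon _).obj (Over.mk j)}
  {q : G ⊗ Over.mk j ⟶ T} {π : T ⟶ Over.mk j}
  (hπ : (yon _).map π = e.hom ≫ Limits.prod.snd) (hq : (yon _).map q ≫ e.hom = chart j u)

include hq in
theorem prop_q : Flat q.left ∧ LocallyOfFinitePresentation q.left ∧ Surjective q.left := by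
  have h : (yon _).map q = chart j u ≫ e.inv := by rw [← hq, Category.assoc, e.hom_inv_id, Category.comp_id]
  obtain ⟨h₁, h₂, h₃⟩ := repWith_chart j u
  refine ⟨(_root_.AlgSp.repWith_yon_map_iff @Flat q).1 ?_,
    (_root_.AlgSp.repWith_yon_map_iff @LocallyOfFinitePresentation q).1 ?_,
    (_root_.AlgSp.repWith_yon_map_iff @Surjective q).1 ?_⟩ <;> rw [h]
  exacts [MorphismProperty.RespectsIso.postcomp _ _ _ h₁, MorphismProperty.RespectsIso.postcomp _ _ _ h₂,
    MorphismProperty.RespectsIso.postcomp _ _ _ h₃]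

include hπ hq in
theorem q_π : q ≫ π = snd G (Over.mk j) := (yon _).map_injective (by
  rw [Functor.map_comp, hπ, reassoc_of% hq, prodChart_snd])

include hπ hq in
theorem lft_π : LocallyOfFiniteType π.left := by
  obtain ⟨h₁, h₂, h₃⟩ := prop_q j u hq
  haveI := lft_snd j (G := G)
  have : LocallyOfFiniteType (q.left ≫ π.left) := by
    rw [← Over.comp_left, q_π j u hπ hq]; infer_instance
  exact GrothLib.FppfSource.fppfSourceDescends_lft q.left π.left h₁ h₂ h₃ this

include hq in
theorem exists_translateT (c : Over.mk j ⟶ G) : ∃ t : T ≅ T, q ≫ t.hom = rightT j c ≫ q := by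
  obtain ⟨τ, hτ⟩ := exists_translate j u c
  refine ⟨(_root_.AlgSp.yon _).preimageIso (e ≪≫ τ ≪≫ e.symm), (yon _).map_injective ?_⟩
  rw [Functor.map_comp, Functor.map_comp, Functor.preimageIso_hom, Functor.map_preimage, Iso.trans_hom,
    Iso.trans_hom, Iso.symm_hom, reassoc_of% hq, reassoc_of% hτ, ← hq, Category.assoc, e.hom_inv_id,
    Category.comp_id]

include hq in
theorem leftT_q (f : Over.mk j ⟶ F) : leftT j (f ≫ u) ≫ q = q := (yon _).map_injective (by
  rw [← cancel_mono e.hom, Functor.map_comp, Category.assoc, hq, leftT_chart])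

include hπ hq in
/-- Two rational points with the same image differ by a point of the subgroup. -/
theorem exists_of_q_eq {a b : Over.mk j ⟶ G} (h : q.left (pt j a) = q.left (pt j b)) :
    ∃ f : Over.mk j ⟶ F, b = (f ≫ u) * a := by
  haveI := lft_π j u hπ hq
  let K := Over.mk j
  have hs : ∀ g : K ⟶ G, (lift g (𝟙 K) ≫ q) ≫ π = 𝟙 K := fun g => by
    rw [Category.assoc, q_π j u hπ hq, lift_snd]
  have e' := section_ext j π (hs b) (hs a) (by
    rw [Over.comp_left, Over.comp_left, Scheme.Hom.comp_apply, Scheme.Hom.comp_apply]; exact h.symm)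
  have e'' := congrArg (fun x => (yon _).map x ≫ e.hom) e'
  simp only [Functor.map_comp, Category.assoc, hq] at e''
  obtain ⟨r, hr⟩ := (yon _).map_surjective ((isPullback_chart j u).lift _ _ e'')
  have hr₁ : r ≫ (act u ▷ K) = lift b (𝟙 K) := (yon _).map_injective (by
    rw [Functor.map_comp, hr, IsPullback.lift_fst])
  have hr₂ : r ≫ (snd F G ▷ K) = lift a (𝟙 K) := (yon _).map_injective (by
    rw [Functor.map_comp, hr, IsPullback.lift_snd])
  refine ⟨r ≫ fst _ _ ≫ fst F G, ?_⟩
  have h₁ := congrArg (fun x => x ≫ fst G K) hr₁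
  have h₂ := congrArg (fun x => x ≫ fst G K) hr₂
  simp only [Category.assoc, whiskerRight_fst, lift_fst] at h₁ h₂
  rw [← h₁, ← h₂, Category.assoc, Category.assoc, ← Category.assoc r, comp_act]
  simp only [Category.assoc]
  rfl

include hπ hq in
/-- Images of connected components are open, and equal or disjoint. -/
theorem image_component_eq {a b : Over.mk j ⟶ G}
    (h : ((q.left '' connectedComponent (pt j a)) ∩ (q.left '' connectedComponent (pt j b))).Nonempty) :
    q.left '' connectedComponent (pt j a) = q.left '' connectedComponent (pt j b) := by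
  obtain ⟨h₁, h₂, -⟩ := prop_q j u hq
  haveI := h₁; haveI := h₂
  obtain ⟨x, ⟨y, hy, rfl⟩, ⟨y', hy', hyy⟩⟩ := h
  have hO : IsOpen (connectedComponent (pt j b) ∩
      q.left ⁻¹' (q.left '' connectedComponent (pt j a))) :=
    (isOpen_connectedComponent j _).inter
      ((q.left.isOpenMap _ (isOpen_connectedComponent j _)).preimage q.left.continuous)
  obtain ⟨b', hb', hb''⟩ := exists_pt_mem j (G := G) (s := connectedComponent (pt j b) ∩
      q.left ⁻¹' (q.left '' connectedComponent (pt j a))) ⟨y', hy', y, hy, hyy.symm⟩ hO.isLocallyClosed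
  obtain ⟨y'', hy'', e''⟩ := hb''
  have hC : IsClosed (q.left ⁻¹' {q.left (pt j b')}) := by
    haveI := lft_π j u hπ hq
    refine IsClosed.preimage q.left.continuous ?_
    have : (lift b' (𝟙 _) ≫ q) ≫ π = 𝟙 (Over.mk j) := by rw [Category.assoc, q_π j u hπ hq, lift_snd]
    simpa only [Over.comp_left, Scheme.Hom.comp_apply, pt] using isClosed_section j π this
  obtain ⟨a', ha', ha''⟩ := exists_pt_mem j (G := G)
    (s := connectedComponent (pt j a) ∩ q.left ⁻¹' {q.left (pt j b')}) ⟨y'', hy'', e''⟩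
    (isClosed_connectedComponent.inter hC).isLocallyClosed
  obtain ⟨f, rfl⟩ := exists_of_q_eq j u hπ hq ha''
  have := image_connectedComponent_iso (leftTIso j (f ≫ u)) (pt j a')
  rw [show (leftTIso j (f ≫ u)).hom = leftT j (f ≫ u) from rfl, leftT_pt,
    ← connectedComponent_eq hb', ← connectedComponent_eq ha'] at this
  rw [← this, Set.image_image]
  simp only [← Scheme.Hom.comp_apply, ← Over.comp_left, leftT_q j u hq]

include hπ hq in
/-- Finitely many closed points lie in an affine open. -/
theorem exists_affine_of_finite (s : Finset ↥T.left) (hs : ∀ t ∈ s, IsClosed ({t} : Set ↥T.left)) :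
    ∃ W : T.left.Opens, IsAffineOpen W ∧ ∀ t ∈ s, t ∈ W := by
  classical
  obtain ⟨h₁, h₂, h₃⟩ := prop_q j u hq
  haveI := h₁; haveI := h₂; haveI := h₃
  rcases s.eq_empty_or_nonempty with rfl | ⟨t₀, ht₀⟩
  · exact ⟨⊥, isAffineOpen_bot T.left, by simp⟩
  obtain ⟨U, hU, htU, -⟩ := exists_isAffineOpen_mem_and_subset (x := t₀) (U := ⊤) trivial
  obtain ⟨y₀, hy₀⟩ := h₃.surj t₀
  obtain ⟨b, hb⟩ := exists_pt_mem j (G := G) (s := q.left ⁻¹' U) ⟨y₀, Set.mem_preimage.2 (by rw [hy₀]; exact htU)⟩
    (U.isOpen.preimage q.left.continuous).isLocallyClosed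
  have hlift : ∀ t : ↥s, ∃ a, q.left (pt j a) = t := fun ⟨t, ht⟩ => by
    obtain ⟨y, hy⟩ := h₃.surj t
    obtain ⟨a, ha⟩ := exists_pt_mem j (G := G) ⟨y, hy⟩ ((hs t ht).preimage q.left.continuous).isLocallyClosed
    exact ⟨a, ha⟩
  choose a ha using hlift
  let O : ↥s → Set ↥T.left := fun t => q.left '' connectedComponent (pt j (a t))
  have hOo : ∀ t, IsOpen (O t) := fun t => q.left.isOpenMap _ (isOpen_connectedComponent j _)
  have hOc : ∀ t, IsClosed (O t) := fun t => by
    refine ⟨?_⟩
    rw [isOpen_iff_forall_mem_open]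
    intro x hx
    obtain ⟨y, rfl⟩ := h₃.surj x
    refine ⟨q.left '' connectedComponent y, fun x hx' hx'' => hx ?_,
      q.left.isOpenMap _ (isOpen_connectedComponent j _), y, mem_connectedComponent, rfl⟩
    obtain ⟨c, hc⟩ := exists_pt_mem j (G := G) ⟨y, mem_connectedComponent⟩
      (isOpen_connectedComponent j y).isLocallyClosed
    rw [connectedComponent_eq hc] at hx'
    exact (Set.ext_iff.1 (image_component_eq j u hπ hq ⟨x, hx', hx''⟩) _).1
      ⟨y, by rw [← connectedComponent_eq hc]; exact mem_connectedComponent, rfl⟩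
  have hW : ∀ t : ↥s, ∃ W : T.left.Opens, IsAffineOpen W ∧ (W : Set ↥T.left) ⊆ O t ∧
      ∀ t' : ↥s, (t' : ↥T.left) ∈ O t → (t' : ↥T.left) ∈ W := by
    intro t
    let I := {t' : ↥s // (t' : ↥T.left) ∈ O t}
    have hlift' : ∀ t' : I, ∃ a', pt j a' ∈ connectedComponent (pt j (a t)) ∧ q.left (pt j a') = t'.1.1 := by
      rintro ⟨⟨t', ht'⟩, y, hy, hyt⟩
      obtain ⟨a', h₁', h₂'⟩ := exists_pt_mem j (G := G)
        (s := connectedComponent (pt j (a t)) ∩ q.left ⁻¹' {t'}) ⟨y, hy, hyt⟩
        (isClosed_connectedComponent.inter ((hs t' ht').preimage q.left.continuous)).isLocallyClosed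
      exact ⟨a', h₁', h₂'⟩
    choose a' ha' hqa' using hlift'
    let D := connectedComponent (pt j ((a t)⁻¹ * b))
    let M : I → Set ↥(G ⊗ Over.mk j).left := fun t' => (leftT j (a' t')).left ⁻¹' (q.left ⁻¹' U)
    have hMo : ∀ t', IsOpen (M t') := fun t' =>
      (U.isOpen.preimage q.left.continuous).preimage (leftT j (a' t')).left.continuous
    have hMne : ∀ t', (D ∩ M t').Nonempty := fun t' => by
      have e₁ := image_connectedComponent_iso (leftTIso j (a' t')) (pt j ((a t)⁻¹ * b))
      have e₂ := image_connectedComponent_iso (rightTIso j ((a t)⁻¹ * b)) (pt j (a t))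
      rw [show (leftTIso j (a' t')).hom = leftT j (a' t') from rfl, leftT_pt] at e₁
      rw [show (rightTIso j ((a t)⁻¹ * b)).hom = rightT j ((a t)⁻¹ * b) from rfl, rightT_pt,
        mul_inv_cancel_left] at e₂
      have hm : pt j (a' t' * ((a t)⁻¹ * b)) ∈ connectedComponent (pt j b) := by
        rw [← e₂]
        exact ⟨_, ha' t', rightT_pt j _ _⟩
      rw [← connectedComponent_eq hm] at e₁
      have hm' : pt j b ∈ (leftT j (a' t')).left '' D := by rw [e₁]; exact mem_connectedComponent
      obtain ⟨d, hd, hd'⟩ := hm'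
      exact ⟨d, hd, show q.left ((leftT j (a' t')).left d) ∈ U by rw [hd']; exact hb⟩
    have hne : ∀ J : Finset I, (D ∩ ⋂ t' ∈ J, M t').Nonempty := by
      intro J
      induction J using Finset.induction with
      | empty => simp [D, connectedComponent_nonempty]
      | @insert t' J ht' ih =>
        simp only [Finset.set_biInter_insert]
        exact (isIrreducible_connectedComponent j _).2 _ _ (hMo t')
          (isOpen_biInter_finset fun t'' _ => hMo t'') (hMne t') ih
    obtain ⟨d, -, hd⟩ := exists_pt_mem j (G := G) (hne Finset.univ)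
      ((isOpen_connectedComponent j _).inter (isOpen_biInter_finset fun t' _ => hMo t')).isLocallyClosed
    simp only [Set.mem_iInter] at hd
    obtain ⟨τ, hτ⟩ := exists_translateT j u hq d
    haveI : IsIso τ.hom.left := GrothLib.GrpSchField.isIso_left _
    let Oo : T.left.Opens := ⟨O t, hOo t⟩
    haveI : IsClosedImmersion Oo.ι := IsClosedImmersion.of_isPreimmersion _ (by
      rw [Scheme.Opens.range_ι]; exact hOc t)
    refine ⟨(τ.hom.left ⁻¹ᵁ U) ⊓ Oo, ?_, fun x hx => hx.2, fun t' ht' => ⟨?_, ht'⟩⟩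
    · exact isAffineOpen_inter' (hU.preimage τ.hom.left)
    · have hm := hd ⟨t', ht'⟩ (Finset.mem_univ _)
      change q.left ((leftT j (a' ⟨t', ht'⟩)).left (pt j d)) ∈ U at hm
      rw [leftT_pt, ← rightT_pt, ← Scheme.Hom.comp_apply, ← Over.comp_left, ← hτ, Over.comp_left,
        Scheme.Hom.comp_apply, hqa'] at hm
      exact hm
  choose W hWa hWO hWm using hW
  let reps : Finset (Set ↥T.left) := Finset.univ.image O
  have hsel : ∀ S : ↥reps, ∃ t : ↥s, O t = S := fun ⟨S, hS⟩ => by
    obtain ⟨t, -, ht⟩ := Finset.mem_image.1 hS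
    exact ⟨t, ht⟩
  choose r hr using hsel
  refine ⟨⨆ S : ↥reps, W (r S), IsAffineOpen.iSup_of_disjoint (fun S => hWa _) ?_, fun t ht => ?_⟩
  · intro S S' hne
    rw [Function.onFun, disjoint_iff_inf_le]
    intro x hx
    refine (hne (Subtype.ext ?_)).elim
    rw [← hr S, ← hr S']
    exact image_component_eq j u hπ hq ⟨x, hWO _ hx.1, hWO _ hx.2⟩
  · refine TopologicalSpace.Opens.mem_iSup.2 ⟨⟨O ⟨t, ht⟩, Finset.mem_image_of_mem _ (Finset.mem_univ _)⟩, ?_⟩
    refine hWm _ ⟨t, ht⟩ ?_
    rw [hr]
    exact ⟨_, mem_connectedComponent, ha _⟩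

end Bar

/-- The quotient of a group scheme locally of finite type over a field by a closed subgroup is a scheme. -/
theorem isRepresentable_quot : ∃ X : Over (Spec (CommRingCat.of k)), Nonempty ((yon _).obj X ≅ quot u) := by
  let kb := AlgebraicClosure k
  let j : Spec (CommRingCat.of kb) ⟶ Spec (CommRingCat.of k) :=
    Spec.map (CommRingCat.ofHom (algebraMap k kb))
  obtain ⟨T, e, q, π, hπ, hq⟩ := exists_bar j u
  let p : quot u ⟶ (yon _).obj (Over.mk (𝟙 _)) := Classical.choice
    (by
      obtain ⟨hd, h₁, h₂, h₃⟩ := chart_facts u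
      haveI := GrothLib.AlgSp.isLocallySurjective_yonQuotπ (snd F G) (act u)
      obtain ⟨ψ, -⟩ := exists_desc (proj u) (isPullback_proj u) ((yon _).map (Over.homMk G.hom (Category.comp_id _) : G ⟶ Over.mk (𝟙 _)))
        (by rw [← Functor.map_comp, ← Functor.map_comp]; congr 1; exact Over.mkIdTerminal.hom_ext _ _)
      exact ⟨ψ⟩)
  have hp := locP_lft_of_chart (proj u) (isAlgSpace_quot u) (chart_facts u).2.1 (chart_facts u).2.2.1
    (chart_facts u).2.2.2 p
  haveI := lft_π j u hπ hq
  have h := Groth.Agent.S10493.result k ⟨quot u, isAlgSpace_quot u⟩ (isDecent_quot u) p hp kb T e π hπ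
    fun s hs => exists_affine_of_finite j u hπ hq s fun t ht => by
      obtain ⟨σ, hσ, rfl⟩ := hs t ht
      exact isClosed_section j π (a := Over.homMk σ (by rw [← Over.w π, reassoc_of% hσ]))
        (Over.OverMorphism.ext hσ)
  obtain ⟨X, ⟨r⟩⟩ := h.has_representation
  exact ⟨X, ⟨_root_.AlgSp.isoOfRepresentableBy r⟩⟩

end GrothLib.QuotGrp14
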