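import Groth.Prelude.Def_AlgGrp
import Groth.Agent.Lib.AlgSp.BootstrapQuot
import Groth.Agent.Lib.AlgSp.AffineDescent
import Groth.Agent.Lib.AlgSp.MonoPoint
import Groth.Agent.Lib.GrpSchField.Shear

/-!
# The quotient sheaf of a group scheme by a subgroup acting by left translations

`act u : F ⊗ G ⟶ G`, `(f, g) ↦ u f * g`; `isEqvRel_act`; the fppf quotient sheaf is an algebraic space,
separated when `u` is a closed immersion; if it is representable, a quotient morphism exists.
-/

universe u

open CategoryTheory CategoryTheory.Limits MonoidalCategory CartesianMonoidalCategory MonObj GrpObj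
open AlgebraicGeometry Opposite

set_option backward.isDefEq.respectTransparency false

noncomputable section

namespace GrothLib.QuotGrp14

variable {S : Scheme.{u}} {F G : Over S} [GrpObj F] [GrpObj G]

/-- The left translation action of `F` on `G` through `u`. -/
abbrev act (u : F ⟶ G) : F ⊗ G ⟶ G := (u ▷ G) ≫ μ[G]

theorem lift_act (u : F ⟶ G) {T : Over S} (f : T ⟶ F) (g : T ⟶ G) :
    lift f g ≫ act u = (f ≫ u) * g := by
  rw [act, ← Category.assoc, Hom.mul_def]
  congr 1
  apply CartesianMonoidalCategory.hom_ext <;> simp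

theorem comp_act (u : F ⟶ G) {T : Over S} (x : T ⟶ F ⊗ G) :
    x ≫ act u = (x ≫ fst F G ≫ u) * (x ≫ snd F G) := by
  conv_lhs => rw [← lift_comp_fst_snd x, lift_act]
  rw [Category.assoc]

theorem isEqvRel_act (u : F ⟶ G) [IsMonHom u] [Mono u] :
    AlgSp.IsEqvRel (snd F G) (act u) where
  injective T r r' h₁ h₂ := by
    apply CartesianMonoidalCategory.hom_ext _ _ _ h₂
    rw [← cancel_mono u, Category.assoc, Category.assoc]
    rw [comp_act, comp_act, h₂] at h₁
    exact mul_right_cancel h₁
  equivalence T :=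
    { refl := fun a => ⟨lift 1 a, by rw [lift_act, MonObj.one_comp, _root_.one_mul], lift_snd _ _⟩
      symm := by
        rintro a b ⟨r, rfl, rfl⟩
        refine ⟨lift (r ≫ fst F G)⁻¹ (r ≫ act u), ?_, lift_snd _ _⟩
        rw [lift_act, GrpObj.inv_comp, comp_act, Category.assoc, inv_mul_cancel_left]
      trans := by
        rintro a b c ⟨r, rfl, rfl⟩ ⟨r', h, rfl⟩
        refine ⟨lift ((r ≫ fst F G) * (r' ≫ fst F G)) (r' ≫ snd F G), ?_, lift_snd _ _⟩
        rw [lift_act, MonObj.mul_comp, comp_act, ← h, comp_act, Category.assoc, Category.assoc,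
          _root_.mul_assoc] }

theorem act_eq_shear (u : F ⟶ G) [IsMonHom u] :
    lift (act u) (snd F G) = (u ▷ G) ≫ lift μ[G] (snd G G) := by
  rw [comp_lift, whiskerRight_snd]

variable (G) in
/-- `(x, y) ↦ (x y, y)`. -/
def shearR : G ⊗ G ≅ G ⊗ G where
  hom := lift (fst G G * snd G G) (snd G G)
  inv := lift (fst G G * (snd G G)⁻¹) (snd G G)
  hom_inv_id := by
    simp [comp_lift, MonObj.comp_mul, GrpObj.comp_inv]
  inv_hom_id := by
    simp [comp_lift, MonObj.comp_mul, GrpObj.comp_inv]

variable (u : F ⟶ G)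

theorem flat_snd [Flat F.hom] : Flat (snd F G).left := MorphismProperty.pullback_snd _ _ ‹_›

theorem lfp_snd [LocallyOfFinitePresentation F.hom] : LocallyOfFinitePresentation (snd F G).left :=
  MorphismProperty.pullback_snd _ _ ‹_›

/-- The quotient sheaf. -/
abbrev quot : AlgSp.Sp S := QuotSh.quot Scheme.fppfPrecoverage (snd F G) (act u)

/-- The projection to the quotient sheaf. -/
abbrev proj : (AlgSp.yon S).obj G ⟶ quot u := GrothLib.AlgSp.yonQuotπ (snd F G) (act u)

theorem isPullback_proj [IsMonHom u] [Mono u] :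
    IsPullback ((AlgSp.yon S).map (act u)) ((AlgSp.yon S).map (snd F G)) (proj u) (proj u) :=
  GrothLib.AlgSp.isPullback_yonQuotπ (isEqvRel_act u)

variable [IsMonHom u] [Mono u] [Flat F.hom] [LocallyOfFinitePresentation F.hom]

theorem chart_facts : AlgSp.Representable (Limits.diag (quot u)) ∧
    AlgSp.RepWith @Flat (proj u) ∧ AlgSp.RepWith @LocallyOfFinitePresentation (proj u) ∧
      AlgSp.RepWith @Surjective (proj u) :=
  have := GrothLib.AlgSp.isLocallySurjective_yonQuotπ (snd F G) (act u)
  have := flat_snd (F := F) (G := G)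
  have := lfp_snd (F := F) (G := G)
  GrothLib.AlgSp.fppf_chart_of_kernelPair (isPullback_proj u)

theorem isAlgSpace_quot : AlgSp.IsAlgSpace (quot u) :=
  have := flat_snd (F := F) (G := G)
  have := lfp_snd (F := F) (G := G)
  GrothLib.AlgSp.isAlgSpace_quot (isEqvRel_act u)

theorem isSeparatedSp_quot [IsClosedImmersion u.left] : AlgSp.IsSeparatedSp (quot u) := by
  have := GrothLib.AlgSp.isLocallySurjective_yonQuotπ (snd F G) (act u)
  have := GrothLib.AlgSp.isLocallySurjective_prodMap (proj u) (proj u)
  have : Sheaf.IsLocallySurjective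
      (Limits.prodComparison (AlgSp.yon S) G G ≫ Limits.prod.map (proj u) (proj u)) :=
    GrothLib.AlgSp.isLocallySurjective_comp _ _
  refine GrothLib.AlgSp.repWith_of_base (chart_facts u).1 _
    (GrothLib.AlgSp.isPullback_prodLift (isPullback_proj u)) GrothLib.AlgSp.fppfDescends_isClosedImmersion
    ((AlgSp.repWith_yon_map_iff _ _).2 ?_)
  let e : G ⊗ G ≅ G ⨯ G :=
    { hom := Limits.prod.lift (fst G G) (snd G G)
      inv := lift Limits.prod.fst Limits.prod.snd
      hom_inv_id := by apply CartesianMonoidalCategory.hom_ext <;> simp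
      inv_hom_id := by apply Limits.prod.hom_ext <;> simp }
  have he : Limits.prod.lift (act u) (snd F G) = (u ▷ G) ≫ (shearR G).hom ≫ e.hom := by
    have : (shearR G).hom = lift μ[G] (snd G G) := by
      change lift (fst G G * snd G G) (snd G G) = _
      rw [Hom.mul_def, lift_fst_snd, Category.id_comp]
    rw [this, ← Category.assoc, ← act_eq_shear]
    apply Limits.prod.hom_ext <;> simp [e]
  rw [he, Over.comp_left, Over.comp_left]
  haveI : IsClosedImmersion (u ▷ G).left :=
    GrothLib.GrpSchField.whiskerRight_property @IsClosedImmersion u G ‹_›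
  haveI : IsIso (shearR G).hom.left := GrothLib.GrpSchField.isIso_left _
  haveI : IsIso e.hom := e.isIso_hom
  haveI : IsIso e.hom.left := GrothLib.GrpSchField.isIso_left _
  infer_instance

theorem isQuasiSeparatedSp_quot [IsClosedImmersion u.left] : AlgSp.IsQuasiSeparatedSp (quot u) :=
  GrothLib.AlgSp.repWith_mono (isSeparatedSp_quot u) fun _ _ g hg => by
    haveI : IsClosedImmersion g := hg
    infer_instance

theorem isDecent_quot [IsClosedImmersion u.left] : AlgSp.IsDecent (quot u) :=
  GrothLib.AlgSp.isDecent_of_isQuasiSeparatedSp (isAlgSpace_quot u) (isQuasiSeparatedSp_quot u)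

/-- If the quotient sheaf is a scheme, it gives a quotient morphism. -/
theorem exists_proj_of_rep {X : Over S} (e : (AlgSp.yon S).obj X ≅ quot u) :
    ∃ p : G ⟶ X, Flat p.left ∧ Surjective p.left ∧ LocallyOfFinitePresentation p.left ∧
      IsPullback (act u) (snd F G) p p := by
  obtain ⟨-, h₁, h₂, h₃⟩ := chart_facts u
  obtain ⟨p, hp⟩ := (AlgSp.yon S).map_surjective (proj u ≫ e.inv)
  have hP : ∀ (P : MorphismProperty Scheme.{u}) [P.IsStableUnderBaseChange],
      AlgSp.RepWith P (proj u) → P p.left := fun P _ h => by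
    rw [← AlgSp.repWith_yon_map_iff P p, hp]
    exact MorphismProperty.RespectsIso.postcomp _ _ _ h
  refine ⟨p, hP _ h₁, hP _ h₃, hP _ h₂, IsPullback.of_map (AlgSp.yon S) ?_ ?_⟩
  · refine (AlgSp.yon S).map_injective ?_
    rw [Functor.map_comp, hp, (isPullback_proj u).w_assoc, ← hp, ← Functor.map_comp]
  · rw [hp]
    exact (isPullback_proj u).of_iso (Iso.refl _) (Iso.refl _) (Iso.refl _) e.symm (by simp) (by simp)
      (by simp) (by simp)

end GrothLib.QuotGrp14
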